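import Mathlib
import Cfsg.Agent.H26.Ex8

/-! Singer cycle normalisers in `SU₅(2)`, `SU₃(3)`, `SU₃(5)` are not maximal. -/

set_option autoImplicit false
set_option maxHeartbeats 400000
set_option maxRecDepth 100000

namespace Cfsg.Agent.H26

open Matrix Cfsg.Geo Module

variable {ι : Type} [Fintype ι] [DecidableEq ι] {F : Type*} [Field F] {σ : F →+* F}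
  {G : Matrix ι ι F}

/-- model data -/
def t52 : Fin 5 → ZMod 11 := ![1, 4, 5, 9, 3]
/-- model data -/
def tr52 (j : ZMod 11) : F4 := (![1, ⟨1, 1⟩, ⟨0, 1⟩, ⟨1, 1⟩, ⟨1, 1⟩, ⟨1, 1⟩, ⟨0, 1⟩, ⟨0, 1⟩, ⟨0,
    1⟩, ⟨1, 1⟩, ⟨0, 1⟩] : Fin 11 → F4) j
/-- model data -/
def u52 (j : ZMod 11) : Fin 5 → F4 := (![![⟨0, 1⟩, ⟨0, 1⟩, ⟨0, 1⟩, ⟨0, 1⟩, ⟨0, 1⟩], ![1, 0, 0, 0,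
    0], ![0, 1, ⟨1, 1⟩, ⟨0, 1⟩, ⟨1, 1⟩], ![0, 0, 0, 0, 1], ![0, 1, 0, 0, 0], ![0, 0, 1, 0, 0],
    ![1, ⟨1, 1⟩, ⟨0, 1⟩, ⟨1, 1⟩, 0], ![⟨1, 1⟩, ⟨0, 1⟩, ⟨1, 1⟩, 0, 1], ![⟨1, 1⟩, 0, 1, ⟨1, 1⟩, ⟨0,
    1⟩], ![0, 0, 0, 1, 0], ![⟨0, 1⟩, ⟨1, 1⟩, 0, 1, ⟨1, 1⟩]] : Fin 11 → Fin 5 → F4) j
/-- model data -/
def G52 : Matrix (Fin 5) (Fin 5) F4 := !![1, ⟨0, 1⟩, ⟨0, 1⟩, ⟨1, 1⟩, ⟨1, 1⟩; ⟨1, 1⟩, 1, ⟨0, 1⟩,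
    ⟨0, 1⟩, ⟨1, 1⟩; ⟨1, 1⟩, ⟨1, 1⟩, 1, ⟨0, 1⟩, ⟨0, 1⟩; ⟨0, 1⟩, ⟨1, 1⟩, ⟨1, 1⟩, 1, ⟨0, 1⟩; ⟨0, 1⟩,
    ⟨0, 1⟩, ⟨1, 1⟩, ⟨1, 1⟩, 1]
/-- model data -/
def C52 : Matrix (Fin 5) (Fin 5) F4 := !![0, 0, 1, ⟨0, 1⟩, 0; 1, 0, ⟨1, 1⟩, ⟨1, 1⟩, 1; ⟨1, 1⟩, 1,
    ⟨0, 1⟩, 0, 0; ⟨0, 1⟩, 0, ⟨1, 1⟩, 1, 0; ⟨1, 1⟩, 0, 0, ⟨1, 1⟩, 0]
/-- model data -/
def Fr52 : Matrix (Fin 5) (Fin 5) F4 := !![0, 0, 0, 0, 1; 1, 0, 0, 0, 0; 0, 1, 0, 0, 0; 0, 0, 1,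
    0, 0; 0, 0, 0, 1, 0]
/-- model data -/
def w52 : Matrix (Fin 5) (Fin 5) F4 := !![0, 1, ⟨0, 1⟩, ⟨1, 1⟩, 1; 1, ⟨0, 1⟩, ⟨1, 1⟩, 1, 0; ⟨0,
    1⟩, ⟨1, 1⟩, 1, 0, 1; ⟨1, 1⟩, 1, 0, 1, ⟨0, 1⟩; 1, 0, 1, ⟨0, 1⟩, ⟨1, 1⟩]
/-- model data -/
def T52 : Matrix (Fin 5) (Fin 5) F4 := !![1, ⟨0, 1⟩, 0, 1, 0; 0, 1, 0, 0, 0; 0, 0, 1, 0, 0; 0, 0,
    0, 1, 0; 0, 1, 0, ⟨1, 1⟩, 1]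
/-- model data -/
def L52 : List (Fin 5 → F4) := [![1, 0, 0, 0, ⟨0, 1⟩], ![0, 1, 1, ⟨1, 1⟩, 1], ![1, ⟨1, 1⟩, 0, 0,
    0], ![0, 0, 1, 0, ⟨1, 1⟩], ![1, 0, 1, 1, ⟨1, 1⟩], ![0, 1, ⟨0, 1⟩, 0, ⟨0, 1⟩], ![0, 1, 0, ⟨0,
    1⟩, ⟨1, 1⟩], ![0, 1, ⟨1, 1⟩, 0, 0], ![1, 0, ⟨0, 1⟩, ⟨1, 1⟩, 0], ![1, 0, 0, ⟨0, 1⟩, 0], ![1,
    ⟨1, 1⟩, ⟨0, 1⟩, 1, ⟨1, 1⟩], ![1, ⟨1, 1⟩, ⟨0, 1⟩, 0, 0], ![1, ⟨0, 1⟩, 0, ⟨0, 1⟩, ⟨0, 1⟩], ![1,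
    ⟨0, 1⟩, 0, ⟨0, 1⟩, 0], ![1, ⟨0, 1⟩, 1, ⟨1, 1⟩, 0], ![1, 0, ⟨1, 1⟩, 1, 0], ![1, ⟨1, 1⟩, ⟨0,
    1⟩, ⟨1, 1⟩, ⟨0, 1⟩], ![1, 0, ⟨0, 1⟩, 0, ⟨1, 1⟩], ![1, 0, 0, ⟨1, 1⟩, ⟨0, 1⟩], ![1, ⟨1, 1⟩, 0,
    ⟨1, 1⟩, 0], ![0, 0, 1, ⟨1, 1⟩, 0], ![0, 0, 0, 1, ⟨1, 1⟩], ![1, ⟨1, 1⟩, 0, 0, ⟨0, 1⟩], ![1, 0,
    1, 0, ⟨1, 1⟩], ![0, 1, 0, 0, ⟨0, 1⟩], ![1, ⟨1, 1⟩, ⟨0, 1⟩, 1, ⟨0, 1⟩], ![1, ⟨0, 1⟩, 1, ⟨1,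
    1⟩, ⟨0, 1⟩], ![1, 0, ⟨0, 1⟩, ⟨0, 1⟩, ⟨0, 1⟩], ![0, 1, ⟨1, 1⟩, ⟨0, 1⟩, 0], ![0, 1, ⟨0, 1⟩, 0,
    ⟨1, 1⟩], ![1, ⟨1, 1⟩, ⟨0, 1⟩, 0, ⟨1, 1⟩], ![1, ⟨1, 1⟩, 1, 0, 1], ![0, 0, 1, ⟨1, 1⟩, ⟨0, 1⟩],
    ![0, 1, ⟨0, 1⟩, 1, ⟨1, 1⟩], ![1, 1, 1, 1, ⟨1, 1⟩], ![1, 0, ⟨0, 1⟩, 1, 0], ![0, 1, 0, ⟨1, 1⟩,
    1], ![1, 1, ⟨1, 1⟩, 1, 0], ![1, 0, 1, 0, ⟨0, 1⟩], ![1, ⟨0, 1⟩, 0, ⟨1, 1⟩, 0], ![1, 1, ⟨1, 1⟩,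
    1, 1], ![1, ⟨1, 1⟩, 0, 1, 1], ![0, 1, ⟨1, 1⟩, 0, ⟨1, 1⟩], ![1, 0, ⟨1, 1⟩, 0, 0], ![1, ⟨1, 1⟩,
    1, ⟨1, 1⟩, ⟨0, 1⟩], ![0, 1, 0, ⟨1, 1⟩, 0], ![1, ⟨1, 1⟩, 0, 1, ⟨0, 1⟩], ![0, 1, 1, 1, ⟨1, 1⟩],
    ![1, 1, 1, ⟨1, 1⟩, 0], ![1, ⟨0, 1⟩, ⟨0, 1⟩, ⟨0, 1⟩, ⟨0, 1⟩], ![1, 0, ⟨0, 1⟩, ⟨1, 1⟩, ⟨0, 1⟩],
    ![1, 1, 1, ⟨1, 1⟩, 1], ![0, 1, 0, ⟨0, 1⟩, 1], ![1, ⟨1, 1⟩, 1, 1, 1], ![1, 1, ⟨1, 1⟩, 0, 1]]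
/-- model data -/
def cC52 : List (ℕ × F4) := [(1, ⟨1, 1⟩), (3, ⟨1, 1⟩), (6, 1), (8, 1), (11, ⟨1, 1⟩), (14, ⟨0,
    1⟩), (16, ⟨1, 1⟩), (19, ⟨1, 1⟩), (22, ⟨1, 1⟩), (23, ⟨1, 1⟩), (20, ⟨1, 1⟩), (27, ⟨0, 1⟩), (30,
    ⟨1, 1⟩), (17, ⟨1, 1⟩), (32, ⟨1, 1⟩), (35, 1), (38, ⟨1, 1⟩), (12, ⟨0, 1⟩), (40, 1), (41, 1),
    (5, 1), (18, ⟨0, 1⟩), (36, ⟨1, 1⟩), (34, 1), (7, ⟨0, 1⟩), (28, 1), (33, ⟨0, 1⟩), (46, 1),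
    (24, ⟨1, 1⟩), (48, ⟨0, 1⟩), (49, ⟨0, 1⟩), (10, 1), (42, ⟨1, 1⟩), (29, 1), (2, ⟨1, 1⟩), (45,
    ⟨1, 1⟩), (44, 1), (15, 1), (4, 1), (53, 1), (37, 1), (13, ⟨0, 1⟩), (39, ⟨1, 1⟩), (54, ⟨1,
    1⟩), (47, ⟨0, 1⟩), (26, 1), (9, ⟨0, 1⟩), (51, ⟨1, 1⟩), (21, ⟨0, 1⟩), (25, 1), (0, ⟨1, 1⟩),
    (52, 1), (50, ⟨1, 1⟩), (43, ⟨1, 1⟩), (31, ⟨1, 1⟩)]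
/-- model data -/
def cFr52 : List (ℕ × F4) := [(2, ⟨0, 1⟩), (4, 1), (7, 1), (9, ⟨1, 1⟩), (12, ⟨1, 1⟩), (15, ⟨0,
    1⟩), (17, ⟨1, 1⟩), (20, 1), (6, 1), (24, 1), (26, ⟨1, 1⟩), (28, 1), (31, ⟨0, 1⟩), (5, 1),
    (33, 1), (36, 1), (25, ⟨0, 1⟩), (39, ⟨1, 1⟩), (22, ⟨0, 1⟩), (42, 1), (21, 1), (0, ⟨1, 1⟩),
    (11, ⟨0, 1⟩), (13, ⟨1, 1⟩), (43, ⟨0, 1⟩), (10, ⟨0, 1⟩), (44, ⟨0, 1⟩), (41, ⟨0, 1⟩), (32, 1),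
    (8, ⟨1, 1⟩), (14, ⟨1, 1⟩), (37, 1), (18, ⟨0, 1⟩), (50, ⟨1, 1⟩), (49, ⟨1, 1⟩), (52, 1), (23,
    1), (1, 1), (19, ⟨0, 1⟩), (29, 1), (51, 1), (54, 1), (35, ⟨1, 1⟩), (45, 1), (16, ⟨0, 1⟩), (3,
    1), (30, ⟨0, 1⟩), (27, ⟨1, 1⟩), (47, 1), (53, ⟨0, 1⟩), (46, ⟨0, 1⟩), (34, 1), (38, 1), (40,
    1), (48, 1)]
/-- model data -/
def cw52 : List (ℕ × F4) := [(2, ⟨0, 1⟩), (5, ⟨0, 1⟩), (0, ⟨1, 1⟩), (10, 1), (13, ⟨0, 1⟩), (1,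
    ⟨1, 1⟩), (18, ⟨1, 1⟩), (21, 1), (22, 1), (25, 1), (3, 1), (29, 1), (23, 1), (4, ⟨1, 1⟩), (34,
    ⟨0, 1⟩), (37, ⟨0, 1⟩), (24, ⟨0, 1⟩), (32, ⟨1, 1⟩), (6, ⟨0, 1⟩), (19, 1), (20, 1), (7, 1), (8,
    1), (12, 1), (16, ⟨1, 1⟩), (9, 1), (45, ⟨0, 1⟩), (47, ⟨0, 1⟩), (39, 1), (11, 1), (49, ⟨1,
    1⟩), (36, ⟨1, 1⟩), (17, ⟨0, 1⟩), (51, ⟨0, 1⟩), (14, ⟨1, 1⟩), (52, 1), (31, ⟨0, 1⟩), (15, ⟨1,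
    1⟩), (42, ⟨0, 1⟩), (28, 1), (50, ⟨0, 1⟩), (48, 1), (38, ⟨1, 1⟩), (44, 1), (43, 1), (26, ⟨1,
    1⟩), (53, ⟨0, 1⟩), (27, ⟨1, 1⟩), (41, 1), (30, ⟨0, 1⟩), (40, ⟨1, 1⟩), (33, ⟨1, 1⟩), (35, 1),
    (46, ⟨1, 1⟩), (54, 1)]

theorem sgd52 : SgD (starRingEnd F4) (3 + 1 : ℕ) t52 tr52 u52 G52 C52 Fr52 3 := by
  constructor <;> decide +kernel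

theorem nm_singer52 [Fintype F] (hq : Fintype.card F = 4) (hσ : (fun x : F => x ^ 2) = σ)
    (hG : HF σ G 1) (hne : ∃ a, σ a ≠ a) (hn : Fintype.card ι = 5)
    {K : Subalgebra F (Matrix ι ι F)} (hK : IsFieldSubalgebra 5 K)
    (ha : IsAdjointClosedFor (fm σ G) K) :
    Btw (subalgebraNormalizer K) (isom σ G ⊓ specialLinear ι F) := by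
  obtain ⟨φ, hφ⟩ := exists_model (card_F4.trans hq.symm) hσ conj_F4
  refine btw_singer (s := 32) hG hne hq (by simp) (by norm_num) (by norm_num) (by norm_num)
    (by decide) (by norm_num) (Fintype.equivFinOfCardEq hn) φ hφ sgd52 (by simpa) ha
    (fun R _ x A h1 h2 => ?_) (Pts L52) Pts.smul (Pts.pres cC52 (by decide +kernel))
    (Pts.pres cFr52 (by decide +kernel))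
    ⟨T52, by decide +kernel, by unfold pull; decide +kernel, ![0, 1, 1, ⟨1, 1⟩, 1],
      .mem (by decide +kernel), by decide +kernel⟩
    ⟨w52, by decide +kernel, by unfold pull; decide +kernel, by decide +kernel,
      Pts.pres cw52 (by decide +kernel)⟩
  rw [Finset.sum_congr rfl fun i _ => pow_eq_pow_mod _ h1] at h2
  simp [Finset.sum_range_succ] at h2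
  grind

/-- model data -/
def t33 : Fin 3 → ZMod 7 := ![1, 2, 4]
/-- model data -/
def tr33 (j : ZMod 7) : F9 := (![0, ⟨1, 2⟩, ⟨1, 2⟩, ⟨1, 1⟩, ⟨1, 2⟩, ⟨1, 1⟩, ⟨1, 1⟩] : Fin 7 → F9)
    j
/-- model data -/
def u33 (j : ZMod 7) : Fin 3 → F9 := (![![⟨2, 2⟩, ⟨2, 2⟩, ⟨2, 2⟩], ![1, 0, 0], ![0, 1, 0], ![⟨1,
    1⟩, ⟨0, 1⟩, ⟨2, 2⟩], ![0, 0, 1], ![⟨0, 1⟩, ⟨2, 2⟩, ⟨1, 1⟩], ![⟨2, 2⟩, ⟨1, 1⟩, ⟨0, 1⟩]] : Fin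
    7 → Fin 3 → F9) j
/-- model data -/
def G33 : Matrix (Fin 3) (Fin 3) F9 := !![0, ⟨1, 1⟩, ⟨1, 2⟩; ⟨1, 2⟩, 0, ⟨1, 1⟩; ⟨1, 1⟩, ⟨1, 2⟩,
    0]
/-- model data -/
def C33 : Matrix (Fin 3) (Fin 3) F9 := !![0, ⟨1, 1⟩, ⟨0, 1⟩; 1, ⟨0, 1⟩, ⟨2, 2⟩; 0, ⟨2, 2⟩, ⟨1,
    1⟩]
/-- model data -/
def Fr33 : Matrix (Fin 3) (Fin 3) F9 := !![0, 0, 1; 1, 0, 0; 0, 1, 0]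
/-- model data -/
def w33 : Matrix (Fin 3) (Fin 3) F9 := !![1, ⟨2, 2⟩, ⟨2, 1⟩; ⟨2, 2⟩, ⟨2, 1⟩, 1; ⟨2, 1⟩, 1, ⟨2,
    2⟩]
/-- model data -/
def T33 : Matrix (Fin 3) (Fin 3) F9 := !![1, ⟨1, 1⟩, ⟨2, 1⟩; 0, 1, 0; 0, 0, 1]
/-- model data -/
def L33 : List (Fin 3 → F9) := [![1, 0, ⟨0, 1⟩], ![1, ⟨1, 1⟩, ⟨1, 2⟩], ![1, ⟨0, 2⟩, 0], ![1, ⟨1,
    1⟩, ⟨2, 1⟩], ![1, ⟨2, 2⟩, ⟨0, 1⟩], ![1, ⟨1, 1⟩, ⟨2, 0⟩], ![0, 1, ⟨0, 2⟩], ![1, 1, ⟨0, 2⟩],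
    ![1, ⟨1, 1⟩, ⟨0, 2⟩], ![1, ⟨2, 1⟩, ⟨2, 2⟩], ![1, ⟨0, 2⟩, ⟨2, 1⟩], ![1, ⟨2, 0⟩, ⟨2, 2⟩], ![1,
    ⟨0, 1⟩, ⟨2, 1⟩], ![1, ⟨1, 2⟩, ⟨2, 1⟩], ![1, ⟨0, 1⟩, ⟨0, 1⟩], ![1, ⟨1, 2⟩, ⟨2, 2⟩], ![1, ⟨0,
    2⟩, ⟨2, 2⟩], ![1, ⟨1, 2⟩, ⟨0, 2⟩], ![1, ⟨0, 2⟩, 1], ![1, ⟨0, 1⟩, ⟨1, 1⟩], ![1, ⟨1, 2⟩, ⟨0,
    1⟩]]
/-- model data -/
def cC33 : List (ℕ × F9) := [(1, ⟨2, 0⟩), (3, 1), (5, ⟨1, 2⟩), (7, ⟨2, 1⟩), (9, ⟨2, 1⟩), (4, ⟨0,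
    1⟩), (12, ⟨2, 1⟩), (13, ⟨2, 1⟩), (16, ⟨1, 2⟩), (8, ⟨2, 2⟩), (18, ⟨0, 1⟩), (15, ⟨0, 1⟩), (11,
    1), (19, ⟨1, 2⟩), (2, ⟨1, 1⟩), (10, ⟨0, 2⟩), (14, ⟨2, 1⟩), (6, ⟨1, 2⟩), (17, 1), (20, ⟨1,
    2⟩), (0, 1)]
/-- model data -/
def cFr33 : List (ℕ × F9) := [(2, ⟨0, 1⟩), (4, ⟨1, 2⟩), (6, 1), (8, ⟨2, 1⟩), (10, ⟨0, 1⟩), (11,
    ⟨2, 0⟩), (0, ⟨0, 2⟩), (14, ⟨0, 2⟩), (12, ⟨0, 2⟩), (17, ⟨2, 2⟩), (1, ⟨2, 1⟩), (13, ⟨2, 2⟩),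
    (3, ⟨2, 1⟩), (5, ⟨2, 1⟩), (18, ⟨0, 1⟩), (20, ⟨2, 2⟩), (15, ⟨2, 2⟩), (19, ⟨0, 2⟩), (7, 1), (9,
    ⟨1, 1⟩), (16, ⟨0, 1⟩)]
/-- model data -/
def cw33 : List (ℕ × F9) := [(2, ⟨0, 2⟩), (1, 1), (0, ⟨0, 1⟩), (8, ⟨1, 2⟩), (10, ⟨0, 1⟩), (5, ⟨2,
    0⟩), (6, ⟨2, 0⟩), (15, 1), (3, ⟨2, 2⟩), (9, ⟨2, 0⟩), (4, ⟨0, 2⟩), (13, ⟨1, 1⟩), (12, ⟨2, 0⟩),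
    (11, ⟨2, 1⟩), (16, ⟨1, 1⟩), (7, 1), (14, ⟨2, 1⟩), (19, ⟨0, 1⟩), (20, ⟨2, 2⟩), (17, ⟨0, 2⟩),
    (18, ⟨1, 2⟩)]

theorem sgd33 : SgD (starRingEnd F9) (8 + 1 : ℕ) t33 tr33 u33 G33 C33 Fr33 2 := by
  constructor <;> decide +kernel

theorem nm_singer33 [Fintype F] (hq : Fintype.card F = 9) (hσ : (fun x : F => x ^ 3) = σ)
    (hG : HF σ G 1) (hne : ∃ a, σ a ≠ a) (hn : Fintype.card ι = 3)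
    {K : Subalgebra F (Matrix ι ι F)} (hK : IsFieldSubalgebra 3 K)
    (ha : IsAdjointClosedFor (fm σ G) K) :
    Btw (subalgebraNormalizer K) (isom σ G ⊓ specialLinear ι F) := by
  obtain ⟨φ, hφ⟩ := exists_model (card_F9.trans hq.symm) hσ conj_F9
  refine btw_singer (s := 27) hG hne hq (by simp) (by norm_num) (by norm_num) (by norm_num)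
    (by decide) (by norm_num) (Fintype.equivFinOfCardEq hn) φ hφ sgd33 (by simpa) ha
    (fun R _ x A h1 h2 => ?_) (Pts L33) Pts.smul (Pts.pres cC33 (by decide +kernel))
    (Pts.pres cFr33 (by decide +kernel))
    ⟨T33, by decide +kernel, by unfold pull; decide +kernel, ![1, 0, ⟨0, 1⟩],
      .mem (by decide +kernel), by decide +kernel⟩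
    ⟨w33, by decide +kernel, by unfold pull; decide +kernel, by decide +kernel,
      Pts.pres cw33 (by decide +kernel)⟩
  rw [Finset.sum_congr rfl fun i _ => pow_eq_pow_mod _ h1] at h2
  simp [Finset.sum_range_succ] at h2
  grind

/-- model data -/
def t35 : Fin 3 → ZMod 7 := ![1, 4, 2]
/-- model data -/
def tr35 (j : ZMod 7) : F25 := (![⟨3, 0⟩, ⟨1, 3⟩, ⟨1, 3⟩, ⟨3, 2⟩, ⟨1, 3⟩, ⟨3, 2⟩, ⟨3, 2⟩] : Fin 7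
    → F25) j
/-- model data -/
def u35 (j : ZMod 7) : Fin 3 → F25 := (![![⟨4, 1⟩, ⟨4, 1⟩, ⟨4, 1⟩], ![1, 0, 0], ![0, 0, 1], ![⟨1,
    4⟩, ⟨4, 1⟩, ⟨0, 4⟩], ![0, 1, 0], ![⟨0, 4⟩, ⟨1, 4⟩, ⟨4, 1⟩], ![⟨4, 1⟩, ⟨0, 4⟩, ⟨1, 4⟩]] : Fin
    7 → Fin 3 → F25) j
/-- model data -/
def G35 : Matrix (Fin 3) (Fin 3) F25 := !![⟨3, 0⟩, ⟨1, 3⟩, ⟨3, 2⟩; ⟨3, 2⟩, ⟨3, 0⟩, ⟨1, 3⟩; ⟨1,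
    3⟩, ⟨3, 2⟩, ⟨3, 0⟩]
/-- model data -/
def C35 : Matrix (Fin 3) (Fin 3) F25 := !![0, ⟨0, 4⟩, ⟨1, 4⟩; 0, ⟨1, 4⟩, ⟨4, 1⟩; 1, ⟨4, 1⟩, ⟨0,
    4⟩]
/-- model data -/
def Fr35 : Matrix (Fin 3) (Fin 3) F25 := !![0, 0, 1; 1, 0, 0; 0, 1, 0]
/-- model data -/
def w35 : Matrix (Fin 3) (Fin 3) F25 := !![⟨1, 3⟩, ⟨3, 3⟩, ⟨0, 4⟩; ⟨3, 3⟩, ⟨0, 4⟩, ⟨1, 3⟩; ⟨0,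
    4⟩, ⟨1, 3⟩, ⟨3, 3⟩]
/-- model data -/
def T35 : Matrix (Fin 3) (Fin 3) F25 := !![⟨2, 0⟩, ⟨2, 4⟩, ⟨4, 0⟩; 0, 1, 0; 1, ⟨2, 4⟩, 0]
/-- model data -/
def L35 : List (Fin 3 → F25) := [![1, ⟨2, 0⟩, ⟨0, 3⟩], ![1, ⟨3, 0⟩, ⟨1, 4⟩], ![1, ⟨3, 3⟩, ⟨1,
    1⟩], ![1, ⟨3, 3⟩, ⟨1, 2⟩], ![1, ⟨4, 2⟩, ⟨2, 1⟩], ![1, ⟨3, 1⟩, ⟨1, 4⟩], ![1, ⟨0, 4⟩, ⟨3, 0⟩],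
    ![1, ⟨2, 3⟩, ⟨0, 1⟩], ![1, ⟨4, 2⟩, ⟨0, 3⟩], ![1, ⟨4, 4⟩, ⟨1, 3⟩], ![1, ⟨2, 3⟩, ⟨2, 0⟩], ![1,
    ⟨4, 2⟩, ⟨1, 4⟩], ![1, ⟨4, 2⟩, ⟨2, 2⟩], ![1, ⟨0, 2⟩, ⟨1, 4⟩], ![1, ⟨4, 3⟩, ⟨0, 3⟩], ![1, ⟨3,
    3⟩, ⟨2, 1⟩], ![1, ⟨4, 1⟩, ⟨2, 1⟩], ![1, ⟨2, 3⟩, ⟨2, 1⟩], ![1, ⟨3, 4⟩, ⟨2, 4⟩], ![1, ⟨2, 3⟩,
    ⟨0, 3⟩], ![1, ⟨3, 3⟩, ⟨3, 2⟩]]
/-- model data -/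
def cC35 : List (ℕ × F25) := [(1, ⟨3, 4⟩), (3, ⟨0, 4⟩), (5, ⟨0, 1⟩), (7, ⟨1, 3⟩), (9, ⟨0, 3⟩),
    (11, 1), (12, ⟨2, 1⟩), (13, ⟨4, 3⟩), (14, ⟨0, 4⟩), (15, ⟨3, 0⟩), (17, ⟨0, 4⟩), (18, ⟨2, 0⟩),
    (10, 1), (19, ⟨2, 4⟩), (16, 1), (2, 1), (6, ⟨4, 2⟩), (8, ⟨1, 1⟩), (4, ⟨0, 2⟩), (20, ⟨1, 2⟩),
    (0, ⟨3, 1⟩)]
/-- model data -/
def cFr35 : List (ℕ × F25) := [(2, ⟨0, 3⟩), (4, ⟨1, 4⟩), (6, ⟨1, 1⟩), (5, ⟨1, 2⟩), (10, ⟨2, 1⟩),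
    (8, ⟨1, 4⟩), (0, ⟨3, 0⟩), (9, ⟨0, 1⟩), (3, ⟨0, 3⟩), (16, ⟨1, 3⟩), (1, ⟨2, 0⟩), (12, ⟨1, 4⟩),
    (13, ⟨2, 2⟩), (11, ⟨1, 4⟩), (20, ⟨0, 3⟩), (17, ⟨2, 1⟩), (7, ⟨2, 1⟩), (19, ⟨2, 1⟩), (14, ⟨2,
    4⟩), (15, ⟨0, 3⟩), (18, ⟨3, 2⟩)]
/-- model data -/
def cw35 : List (ℕ × F25) := [(2, ⟨0, 2⟩), (1, ⟨4, 0⟩), (0, ⟨2, 2⟩), (8, ⟨3, 3⟩), (10, ⟨3, 4⟩),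
    (5, 1), (6, ⟨4, 0⟩), (7, ⟨4, 0⟩), (3, ⟨0, 3⟩), (16, ⟨4, 2⟩), (4, ⟨3, 2⟩), (13, ⟨1, 3⟩), (12,
    ⟨4, 0⟩), (11, ⟨4, 1⟩), (15, ⟨2, 3⟩), (14, ⟨2, 1⟩), (9, ⟨1, 4⟩), (18, ⟨4, 3⟩), (17, ⟨2, 4⟩),
    (20, ⟨1, 2⟩), (19, ⟨3, 1⟩)]

theorem sgd35 : SgD (starRingEnd F25) (24 + 1 : ℕ) t35 tr35 u35 G35 C35 Fr35 2 := by
  constructor <;> decide +kernel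

theorem nm_singer35 [Fintype F] (hq : Fintype.card F = 25) (hσ : (fun x : F => x ^ 5) = σ)
    (hG : HF σ G 1) (hne : ∃ a, σ a ≠ a) (hn : Fintype.card ι = 3)
    {K : Subalgebra F (Matrix ι ι F)} (hK : IsFieldSubalgebra 3 K)
    (ha : IsAdjointClosedFor (fm σ G) K) :
    Btw (subalgebraNormalizer K) (isom σ G ⊓ specialLinear ι F) := by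
  obtain ⟨φ, hφ⟩ := exists_model (card_F25.trans hq.symm) hσ conj_F25
  refine btw_singer (s := 125) hG hne hq (by simp) (by norm_num) (by norm_num) (by norm_num)
    (by decide) (by norm_num) (Fintype.equivFinOfCardEq hn) φ hφ sgd35 (by simpa) ha
    (fun R _ x A h1 h2 => ?_) (Pts L35) Pts.smul (Pts.pres cC35 (by decide +kernel))
    (Pts.pres cFr35 (by decide +kernel))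
    ⟨T35, by decide +kernel, by unfold pull; decide +kernel, ![1, ⟨3, 0⟩, ⟨1, 4⟩],
      .mem (by decide +kernel), by decide +kernel⟩
    ⟨w35, by decide +kernel, by unfold pull; decide +kernel, by decide +kernel,
      Pts.pres cw35 (by decide +kernel)⟩
  rw [Finset.sum_congr rfl fun i _ => pow_eq_pow_mod _ h1] at h2
  simp [Finset.sum_range_succ] at h2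
  grind

end Cfsg.Agent.H26
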