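import Mathlib

/-! The `2`-groups of order `64` with a self-centralizing rational element of order `8`. -/

set_option autoImplicit false

namespace Cfsg.Agent.H26.Fo

structure Rel {G : Type*} [Group G] (P : Subgroup G) (f j a b : G) (α β : Fin 2) (γ : Fin 4) : Prop where
  card : Nat.card P = 64
  f8 : f ^ 8 = 1
  jj : j * j = 1
  jf : j * f = f ^ 5 * j
  af : a * f = f ^ 7 * a
  aj : a * j = j * a
  aa : a * a = f ^ (4 * α.val)
  bf : b * f = f * j * b
  bj : b * j = j * b
  bb : b * b = f ^ (4 * β.val)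
  ba : b * a = j * f ^ (2 * γ.val) * a * b
  gen : ∀ x, x ∈ P ↔ x ∈ Submonoid.closure ({f, j, a, b} : Set G)

end Cfsg.Agent.H26.Fo
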