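import Mathlib
import Cfsg.Agent.H26.Ex10
import Cfsg.Agent.H26.MW4
import Cfsg.Agent.H10.PSU32
import Cfsg.Agent.S0278

/-! The subgroup `A₇` of `PSU₃(5)`, of index `50`. -/

set_option autoImplicit false
set_option maxHeartbeats 400000
set_option maxRecDepth 100000
set_option synthInstance.maxSize 2048

namespace Cfsg.Agent.H26.MI

open Matrix Cfsg Cfsg.Agent.H11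

/-- a submonoid of a finite group as a subgroup -/
def subOf {G : Type*} [Group G] [Finite G] (S : Submonoid G) : Subgroup G where
  toSubmonoid := S
  inv_mem' {g} hg := by
    have h2 : g⁻¹ = g ^ (orderOf g - 1) := by
      rw [inv_eq_iff_mul_eq_one, ← pow_succ', Nat.sub_add_cancel (orderOf_pos g), pow_orderOf_eq_one]
    rw [h2]
    exact S.pow_mem hg _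

/-- a list in which every element is a later one times a generator -/
def Chn {M : Type*} [Monoid M] (gens : List M) : List M → Prop
  | [] => True
  | A :: L => (A = 1 ∨ ∃ B ∈ L, ∃ g ∈ gens, A = B * g) ∧ Chn gens L

instance decChn {M : Type*} [Monoid M] [DecidableEq M] (gens : List M) :
    ∀ L : List M, Decidable (Chn gens L)
  | [] => isTrue trivial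
  | A :: L => by
    have := decChn gens L
    unfold Chn; infer_instance

theorem Chn.mem {M : Type*} [Monoid M] {gens : List M} {S : Submonoid M} (hg : ∀ g ∈ gens, g ∈ S) :
    ∀ {L : List M}, Chn gens L → ∀ A ∈ L, A ∈ S
  | [], _, _, h => by simp at h
  | A :: L, h, B, hB => by
    rcases List.mem_cons.1 hB with rfl | hB
    · rcases h.1 with rfl | ⟨C, hC, g, h1, rfl⟩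
      · exact one_mem _
      · exact mul_mem (Chn.mem hg h.2 C hC) (hg g h1)
    · exact Chn.mem hg h.2 B hB

/-- the check -/
def Ck {M : Type*} [Monoid M] (gens L : List M) : Prop :=
  L.Nodup ∧ 1 ∈ L ∧ Chn gens L ∧ ∀ A ∈ L, ∀ g ∈ gens, A * g ∈ L

instance decCk {M : Type*} [Monoid M] [DecidableEq M] (gens L : List M) : Decidable (Ck gens L) := by
  unfold Ck; infer_instance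

theorem dvd_of_chn {G M : Type*} [Group G] [Finite G] [Monoid M] (ι : G →* M)
    (hι : Function.Injective ι) (H : Subgroup G) {gens L : List M}
    (hg : ∀ g ∈ gens, g ∈ H.toSubmonoid.map ι) (h1 : Ck gens L) : L.length ∣ Nat.card H := by
  classical
  obtain ⟨h1, h2, h3, h4⟩ := h1
  let S : Submonoid M :=
    { carrier := {B | ∀ A ∈ L, A * B ∈ L}
      one_mem' := fun A h => by simpa using h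
      mul_mem' := fun {a b} ha hb A h => by rw [← mul_assoc]; exact hb _ (ha _ h) }
  have h5 := Chn.mem (S := S) (fun g hg A hA => h4 A hA g hg) h3
  let K : Subgroup G := subOf
    { carrier := {x | ι x ∈ L}
      one_mem' := by simpa using h2
      mul_mem' := fun {a b} ha hb => by simpa using h5 _ hb _ ha }
  have h6 := Chn.mem hg h3
  have h7 : Nat.card K = L.length := by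
    rw [← List.toFinset_card_of_nodup h1, ← Nat.card_eq_finsetCard]
    refine Nat.card_congr (Equiv.ofBijective (fun x => ⟨ι x, List.mem_toFinset.2 x.2⟩)
      ⟨fun x y h => Subtype.ext (hι (congrArg Subtype.val h)), fun ⟨A, hA⟩ => ?_⟩)
    obtain ⟨x, -, rfl⟩ := h6 A (List.mem_toFinset.1 hA)
    exact ⟨⟨x, List.mem_toFinset.1 hA⟩, rfl⟩
  rw [← h7]
  refine Subgroup.card_dvd_of_le fun x hx => ?_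
  obtain ⟨y, hy, e⟩ := h6 _ hx
  exact hι e ▸ hy

theorem mem_su5 {F : Type*} [Field F] [CharP F 5] {A : Matrix.SpecialLinearGroup (Fin 3) F}
    (h : ∀ j k, ∑ i, A i j * A i k ^ 5 = if j = k then 1 else 0) : A ∈ SU 3 F 5 := fun u v => by
  have := Fact.mk Nat.prime_five
  change ∑ i, (∑ j, A i j * u j) * (∑ k, A i k * v k) ^ 5 = ∑ j, u j * v j ^ 5
  simp only [sum_pow_char, Finset.sum_mul_sum]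
  rw [Finset.sum_comm]
  refine Finset.sum_congr rfl fun j _ => ?_
  rw [Finset.sum_comm]
  simp only [show ∀ i k, A i j * u j * (A i k * v k) ^ 5 = u j * v k ^ 5 * (A i j * A i k ^ 5) by
    intros; ring, ← Finset.mul_sum, h]
  simp

/-- model data -/
def L27 : List (Matrix (Fin 3) (Fin 3) F25) := [!![⟨0,1⟩,⟨0,0⟩,⟨0,0⟩;⟨0,0⟩,⟨0,1⟩,⟨0,0⟩;⟨0,0⟩,⟨0,0⟩,⟨0,1⟩],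
    !![⟨4,4⟩,⟨0,0⟩,⟨0,0⟩;⟨0,0⟩,⟨4,4⟩,⟨0,0⟩;⟨0,0⟩,⟨0,0⟩,⟨4,4⟩],
    !![⟨1,0⟩,⟨0,0⟩,⟨0,0⟩;⟨0,0⟩,⟨4,4⟩,⟨0,0⟩;⟨0,0⟩,⟨0,0⟩,⟨0,1⟩],
    !![⟨0,1⟩,⟨0,0⟩,⟨0,0⟩;⟨0,0⟩,⟨1,0⟩,⟨0,0⟩;⟨0,0⟩,⟨0,0⟩,⟨4,4⟩],
    !![⟨0,0⟩,⟨0,1⟩,⟨0,0⟩;⟨0,0⟩,⟨0,0⟩,⟨0,1⟩;⟨0,1⟩,⟨0,0⟩,⟨0,0⟩],
    !![⟨0,0⟩,⟨4,4⟩,⟨0,0⟩;⟨0,0⟩,⟨0,0⟩,⟨4,4⟩;⟨4,4⟩,⟨0,0⟩,⟨0,0⟩],
    !![⟨0,0⟩,⟨0,0⟩,⟨4,4⟩;⟨1,0⟩,⟨0,0⟩,⟨0,0⟩;⟨0,0⟩,⟨0,1⟩,⟨0,0⟩],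
    !![⟨4,4⟩,⟨0,0⟩,⟨0,0⟩;⟨0,0⟩,⟨1,0⟩,⟨0,0⟩;⟨0,0⟩,⟨0,0⟩,⟨0,1⟩],
    !![⟨1,0⟩,⟨0,0⟩,⟨0,0⟩;⟨0,0⟩,⟨0,1⟩,⟨0,0⟩;⟨0,0⟩,⟨0,0⟩,⟨4,4⟩],
    !![⟨0,0⟩,⟨1,0⟩,⟨0,0⟩;⟨0,0⟩,⟨0,0⟩,⟨4,4⟩;⟨0,1⟩,⟨0,0⟩,⟨0,0⟩],
    !![⟨0,0⟩,⟨0,1⟩,⟨0,0⟩;⟨0,0⟩,⟨0,0⟩,⟨1,0⟩;⟨4,4⟩,⟨0,0⟩,⟨0,0⟩],
    !![⟨0,0⟩,⟨0,0⟩,⟨0,1⟩;⟨0,1⟩,⟨0,0⟩,⟨0,0⟩;⟨0,0⟩,⟨0,1⟩,⟨0,0⟩],
    !![⟨0,0⟩,⟨4,4⟩,⟨0,0⟩;⟨0,0⟩,⟨0,0⟩,⟨0,1⟩;⟨1,0⟩,⟨0,0⟩,⟨0,0⟩],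
    !![⟨0,0⟩,⟨0,0⟩,⟨4,4⟩;⟨4,4⟩,⟨0,0⟩,⟨0,0⟩;⟨0,0⟩,⟨4,4⟩,⟨0,0⟩],
    !![⟨0,0⟩,⟨4,4⟩,⟨0,0⟩;⟨0,0⟩,⟨0,0⟩,⟨1,0⟩;⟨0,1⟩,⟨0,0⟩,⟨0,0⟩],
    !![⟨0,0⟩,⟨1,0⟩,⟨0,0⟩;⟨0,0⟩,⟨0,0⟩,⟨0,1⟩;⟨4,4⟩,⟨0,0⟩,⟨0,0⟩],
    !![⟨0,0⟩,⟨0,0⟩,⟨1,0⟩;⟨4,4⟩,⟨0,0⟩,⟨0,0⟩;⟨0,0⟩,⟨0,1⟩,⟨0,0⟩],
    !![⟨0,0⟩,⟨0,1⟩,⟨0,0⟩;⟨0,0⟩,⟨0,0⟩,⟨4,4⟩;⟨1,0⟩,⟨0,0⟩,⟨0,0⟩],
    !![⟨0,0⟩,⟨0,0⟩,⟨0,1⟩;⟨1,0⟩,⟨0,0⟩,⟨0,0⟩;⟨0,0⟩,⟨4,4⟩,⟨0,0⟩],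
    !![⟨0,0⟩,⟨0,0⟩,⟨4,4⟩;⟨0,1⟩,⟨0,0⟩,⟨0,0⟩;⟨0,0⟩,⟨1,0⟩,⟨0,0⟩],
    !![⟨0,0⟩,⟨1,0⟩,⟨0,0⟩;⟨0,0⟩,⟨0,0⟩,⟨1,0⟩;⟨1,0⟩,⟨0,0⟩,⟨0,0⟩],
    !![⟨0,0⟩,⟨0,0⟩,⟨1,0⟩;⟨0,1⟩,⟨0,0⟩,⟨0,0⟩;⟨0,0⟩,⟨4,4⟩,⟨0,0⟩],
    !![⟨0,0⟩,⟨0,0⟩,⟨0,1⟩;⟨4,4⟩,⟨0,0⟩,⟨0,0⟩;⟨0,0⟩,⟨1,0⟩,⟨0,0⟩],
    !![⟨4,4⟩,⟨0,0⟩,⟨0,0⟩;⟨0,0⟩,⟨0,1⟩,⟨0,0⟩;⟨0,0⟩,⟨0,0⟩,⟨1,0⟩],
    !![⟨0,0⟩,⟨0,0⟩,⟨1,0⟩;⟨1,0⟩,⟨0,0⟩,⟨0,0⟩;⟨0,0⟩,⟨1,0⟩,⟨0,0⟩],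
    !![⟨0,1⟩,⟨0,0⟩,⟨0,0⟩;⟨0,0⟩,⟨4,4⟩,⟨0,0⟩;⟨0,0⟩,⟨0,0⟩,⟨1,0⟩],
    !![⟨1,0⟩,⟨0,0⟩,⟨0,0⟩;⟨0,0⟩,⟨1,0⟩,⟨0,0⟩;⟨0,0⟩,⟨0,0⟩,⟨1,0⟩]]

/-- model data -/
def L8 : List (Matrix (Fin 3) (Fin 3) F25) := [!![⟨4,0⟩,⟨0,0⟩,⟨0,0⟩;⟨0,0⟩,⟨4,0⟩,⟨0,0⟩;⟨0,0⟩,⟨0,0⟩,⟨1,0⟩],
    !![⟨1,0⟩,⟨0,0⟩,⟨0,0⟩;⟨0,0⟩,⟨4,0⟩,⟨0,0⟩;⟨0,0⟩,⟨0,0⟩,⟨4,0⟩],
    !![⟨0,0⟩,⟨1,0⟩,⟨0,0⟩;⟨1,0⟩,⟨0,0⟩,⟨0,0⟩;⟨0,0⟩,⟨0,0⟩,⟨4,0⟩],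
    !![⟨0,0⟩,⟨4,0⟩,⟨0,0⟩;⟨1,0⟩,⟨0,0⟩,⟨0,0⟩;⟨0,0⟩,⟨0,0⟩,⟨1,0⟩],
    !![⟨0,0⟩,⟨1,0⟩,⟨0,0⟩;⟨4,0⟩,⟨0,0⟩,⟨0,0⟩;⟨0,0⟩,⟨0,0⟩,⟨1,0⟩],
    !![⟨0,0⟩,⟨4,0⟩,⟨0,0⟩;⟨4,0⟩,⟨0,0⟩,⟨0,0⟩;⟨0,0⟩,⟨0,0⟩,⟨4,0⟩],
    !![⟨4,0⟩,⟨0,0⟩,⟨0,0⟩;⟨0,0⟩,⟨1,0⟩,⟨0,0⟩;⟨0,0⟩,⟨0,0⟩,⟨4,0⟩],
    !![⟨1,0⟩,⟨0,0⟩,⟨0,0⟩;⟨0,0⟩,⟨1,0⟩,⟨0,0⟩;⟨0,0⟩,⟨0,0⟩,⟨1,0⟩]]

/-- model data -/
def L5 : List (Matrix (Fin 3) (Fin 3) F25) := [!![⟨0,1⟩,⟨3,3⟩,⟨4,0⟩;⟨0,1⟩,⟨4,4⟩,⟨3,0⟩;⟨0,2⟩,⟨4,4⟩,⟨4,0⟩],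
    !![⟨1,2⟩,⟨3,3⟩,⟨0,3⟩;⟨0,0⟩,⟨4,3⟩,⟨4,1⟩;⟨4,1⟩,⟨0,2⟩,⟨3,0⟩],
    !![⟨4,3⟩,⟨0,0⟩,⟨3,4⟩;⟨0,2⟩,⟨1,2⟩,⟨3,3⟩;⟨2,2⟩,⟨3,4⟩,⟨3,0⟩],
    !![⟨4,4⟩,⟨4,4⟩,⟨3,3⟩;⟨0,2⟩,⟨0,1⟩,⟨0,1⟩;⟨4,0⟩,⟨3,0⟩,⟨4,0⟩],
    !![⟨1,0⟩,⟨0,0⟩,⟨0,0⟩;⟨0,0⟩,⟨1,0⟩,⟨0,0⟩;⟨0,0⟩,⟨0,0⟩,⟨1,0⟩]]

/-- model data -/
def L7 : List (Matrix (Fin 3) (Fin 3) F25) := [!![⟨0,1⟩,⟨1,1⟩,⟨3,0⟩;⟨0,1⟩,⟨2,2⟩,⟨4,0⟩;⟨0,2⟩,⟨1,1⟩,⟨4,0⟩],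
    !![⟨3,0⟩,⟨2,0⟩,⟨1,2⟩;⟨2,2⟩,⟨3,3⟩,⟨4,1⟩;⟨2,1⟩,⟨2,1⟩,⟨0,0⟩],
    !![⟨1,3⟩,⟨1,3⟩,⟨1,3⟩;⟨3,1⟩,⟨3,2⟩,⟨4,2⟩;⟨3,2⟩,⟨3,1⟩,⟨4,2⟩],
    !![⟨3,2⟩,⟨2,4⟩,⟨1,3⟩;⟨3,2⟩,⟨1,3⟩,⟨2,4⟩;⟨3,2⟩,⟨2,3⟩,⟨2,3⟩],
    !![⟨3,0⟩,⟨0,3⟩,⟨1,4⟩;⟨2,0⟩,⟨0,2⟩,⟨1,4⟩;⟨4,3⟩,⟨3,4⟩,⟨0,0⟩],
    !![⟨4,4⟩,⟨4,4⟩,⟨3,3⟩;⟨0,4⟩,⟨0,3⟩,⟨0,4⟩;⟨3,0⟩,⟨4,0⟩,⟨4,0⟩],
    !![⟨1,0⟩,⟨0,0⟩,⟨0,0⟩;⟨0,0⟩,⟨1,0⟩,⟨0,0⟩;⟨0,0⟩,⟨0,0⟩,⟨1,0⟩]]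

/-- the matrix of an element -/
def io5 : SU 3 F25 5 →* Matrix (Fin 3) (Fin 3) F25 :=
  (Matrix.SpecialLinearGroup.coeMonoidHom).comp (SU 3 F25 5).subtype

theorem io5_inj : Function.Injective io5 := Subtype.val_injective.comp Subtype.val_injective

/-- the stabiliser of the 105 points -/
def A7 : Subgroup (SU 3 F25 5) := subOf ((presM (Pts LF)).comap io5)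

theorem mem_A7 {x : SU 3 F25 5} : x ∈ A7 ↔ ∀ v, Pts LF v → Pts LF (io5 x *ᵥ v) := Iff.rfl

theorem mk5 (A : Matrix (Fin 3) (Fin 3) F25) (h : A.det = 1 ∧
    ∀ j k, ∑ i, A i j * A i k ^ 5 = if j = k then 1 else 0) : ∃ x, io5 x = A := by
  have : CharP F25 5 := charP_of_injective_algebraMap (algebraMap (ZMod 5) F25).injective 5
  exact ⟨⟨⟨A, h.1⟩, mem_su5 h.2⟩, rfl⟩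

theorem mk5' {A : Matrix (Fin 3) (Fin 3) F25} (h : A ∈ presM (Pts LF)) (h' : A.det = 1 ∧
    ∀ j k, ∑ i, A i j * A i k ^ 5 = if j = k then 1 else 0) : A ∈ A7.toSubmonoid.map io5 := by
  obtain ⟨x, rfl⟩ := mk5 A h'
  exact ⟨x, mem_A7.2 h, rfl⟩

theorem dvd1 {A : Matrix (Fin 3) (Fin 3) F25} (h : A ∈ A7.toSubmonoid.map io5)
    {L : List (Matrix (Fin 3) (Fin 3) F25)} (h1 : Ck [A] L) : L.length ∣ Nat.card A7 :=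
  dvd_of_chn io5 io5_inj A7 (fun g hg => by rw [List.mem_singleton.1 hg]; exact h) h1

theorem dvd2 {A B : Matrix (Fin 3) (Fin 3) F25} (h : A ∈ A7.toSubmonoid.map io5)
    (h' : B ∈ A7.toSubmonoid.map io5)
    {L : List (Matrix (Fin 3) (Fin 3) F25)} (h1 : Ck [A, B] L) : L.length ∣ Nat.card A7 :=
  dvd_of_chn io5 io5_inj A7 (fun g hg => by
    rcases List.mem_pair.1 hg with rfl | rfl <;> assumption) h1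

theorem dvd_A7 : 7560 ∣ Nat.card A7 := by
  have a1 := mk5' (A := !![0, 0, 1; 1, 0, 0; 0, 1, 0]) (Pts.pres cFcyc (by decide +kernel))
    (by decide +kernel)
  have a2 := mk5' (smul_mem_presM (g := !![0, 1, 0; 1, 0, 0; 0, 0, 1])
    (Pts.pres cFsw (by decide +kernel)) (-1)) (by decide +kernel)
  have a3 := mk5' (A := diagonal ![⟨1, 1⟩, ⟨0, 4⟩, 1]) (Pts.pres cFD1 (by decide +kernel))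
    (by decide +kernel)
  have a4 := mk5' (smul_mem_presM (g := diagonal ![1, -1, 1])
    (Pts.pres cFD2 (by decide +kernel)) (-1)) (by decide +kernel)
  have a5 := mk5' (A := !![3, 4, 4; 4, 3, 4; 4, 4, 3]) (Pts.pres cFw (by decide +kernel))
    (by decide +kernel)
  have d27 := dvd2 (Submonoid.mul_mem _ a3 a3) a1 (L := L27) (by decide +kernel)
  have d8 := dvd2 a4 a2 (L := L8) (by decide +kernel)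
  have d5 := dvd1 (Submonoid.mul_mem _ (Submonoid.mul_mem _ a3 a1) a5) (L := L5) (by decide +kernel)
  have d7 := dvd1 (Submonoid.mul_mem _ (Submonoid.mul_mem _ (Submonoid.mul_mem _
    (Submonoid.mul_mem _ a3 a4) a1) a2) a5) (L := L7) (by decide +kernel)
  rw [show L27.length = 27 from rfl] at d27
  rw [show L8.length = 8 from rfl] at d8
  rw [show L5.length = 5 from rfl] at d5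
  rw [show L7.length = 7 from rfl] at d7
  exact (by decide : Nat.Coprime (27 * 8 * 5) 7).mul_dvd_of_dvd_of_dvd
    ((by decide : Nat.Coprime (27 * 8) 5).mul_dvd_of_dvd_of_dvd
      ((by decide : Nat.Coprime 27 8).mul_dvd_of_dvd_of_dvd d27 d8) d5) d7

theorem A7_ne : A7 ≠ ⊤ := fun h => by
  obtain ⟨x, hx⟩ := mk5 T25 (by decide +kernel)
  have := mem_A7.1 (h.ge (Subgroup.mem_top x))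
  rw [hx] at this
  exact (by decide +kernel : ¬ Pts LF (T25 *ᵥ ![1, 0, 1])) (this _ (.mem (by decide +kernel)))

theorem a7_F25 : ∃ H : Subgroup (PSU 3 F25 5), H.index = 50 := by
  have hF : Fintype.card F25 = 5 ^ 2 := card_F25
  have hσ := qConj_conjQ hF
  obtain ⟨H, hH⟩ := exists_index_quot A7 fun z hz => by
    have h := ucStd hσ 3
    rw [mem_center_equiv (suEquiv hσ 3), h.herm.mem_center_sisom h.sep (by simp)] at hz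
    obtain ⟨a, ha⟩ := hz
    refine mem_A7.2 fun x hx => ?_
    have : io5 z *ᵥ x = a.1.1 • x := by
      change ((suEquiv hσ 3 z).1.1) x = _
      rw [ha, IsHerm.scalU_apply]
    rw [this]
    exact Pts.smul _ _ hx
  refine ⟨H, ?_⟩
  have h1 := psu3_lower hF (by omega) H fun h => A7_ne (by
    rwa [h, Subgroup.index_top, eq_comm, Subgroup.index_eq_one] at hH)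
  have h2 := S0278.result hF 3 (by omega)
  have h3 := A7.index_mul_card
  simp only [Finset.prod_range_succ] at h2
  norm_num at h2
  obtain ⟨k, hk⟩ := dvd_A7
  rw [hk, ← hH] at h3
  have h4 : H.index * k = 50 := by nlinarith
  have := Nat.le_of_dvd (by omega) (Dvd.intro _ h4)
  omega

theorem psu35_exists {F : Type*} [Field F] [Fintype F] (hF : Fintype.card F = 25) :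
    ∃ H : Subgroup (PSU 3 F 5), H.index = 50 := by
  obtain ⟨e⟩ := H10.nonempty_psu_congr (K := F) (L := F25)
    (by rw [Nat.card_eq_fintype_card, Nat.card_eq_fintype_card, hF, card_F25]) 3 5
  obtain ⟨H, hH⟩ := a7_F25
  exact ⟨H.comap e.toMonoidHom, by rw [Subgroup.index_comap_of_surjective _ e.surjective, hH]⟩

end Cfsg.Agent.H26.MI
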