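import Mathlib
import Cfsg.Agent.H26.NM1

/-! Non-maximality of some geometric subgroups: refinements. -/

set_option autoImplicit false
set_option maxHeartbeats 400000

namespace Cfsg.Agent.H26

open Matrix Cfsg.Geo Module
open scoped Kronecker commutatorElement

variable {ι κ β : Type} [Fintype ι] [DecidableEq ι] [Fintype κ] [DecidableEq κ]
  [Fintype β] [DecidableEq β] {F : Type*} [Field F] {σ : F →+* F} {G : Matrix ι ι F} {ε : F}
  {Q : (ι → F) → F}

theorem OBlk.refine' {t k : ℕ} {D : Fin t → Submodule F (ι → F)} {e : ι ≃ Fin k × Fin t}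
    {P : GL ι F} {Q₀ : (Fin k → F) → F} {G₀ : Matrix (Fin k) (Fin k) F}
    (h : OBlk Q G D e P (fun _ => Q₀) fun _ => G₀) (hQ : QF Q G)
    (hD : IsNondegenerateMDecomposition (𝔟 G) k D) {s k' : ℕ} (hs : 0 < s) (hk : 0 < k')
    {Q₁ : (Fin k' → F) → F} {G₁ : Matrix (Fin k') (Fin k') F} (h₁ : QF Q₁ G₁)
    {ψ : Fin s → (Fin k' → F) →ₗ[F] (Fin k → F)} (h1 : ∀ l x, Q₀ (ψ l x) = Q₁ x)
    (h2 : ∀ l l', l ≠ l' → ∀ x y, 𝔟 G₀ (ψ l x) (ψ l' y) = 0) (h3 : ⨆ l, LinearMap.range (ψ l) = ⊤)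
    (h4 : ∀ a ∈ isometryGroup F Q₀, ∀ l, ∃ l', ∀ x, ∃ y, a.val *ᵥ ψ l x = ψ l' y) :
    ∃ D' : Fin (s * t) → Submodule F (ι → F), IsOrthogonalMDecomposition Q k' D' ∧
      (∀ i, ∃ j, D' i ≤ D j) ∧
      decompositionStabilizer D ⊓ isometryGroup F Q ≤ decompositionStabilizer D' := by
  let φ : Fin (s * t) → (Fin k' → F) →ₗ[F] (ι → F) := fun i =>
    blkL e P (finProdFinEquiv.symm i).2 ∘ₗ ψ (finProdFinEquiv.symm i).1
  have h5 : ∀ i x, Q (φ i x) = Q₁ x := fun i x => (h.val _ _).trans (h1 _ x)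
  have h6 : IsOrthogonalMDecomposition Q k' fun i => LinearMap.range (φ i) := by
    refine hQ.mk_odec h₁ (by have := hD.decomp.two_le; nlinarith) hk h5 (fun i j hij x y => ?_) ?_
    · by_cases h7 : (finProdFinEquiv.symm i).2 = (finProdFinEquiv.symm j).2
      · simp only [φ, LinearMap.comp_apply, h7]
        rw [hQ.fm_of_comp (h.qf (finProdFinEquiv.symm j).2) (h.val _)]
        exact h2 _ _ (fun h8 => hij (finProdFinEquiv.symm.injective (Prod.ext h8 h7))) x y
      · exact hD.orthogonal _ _ h7 _ (h.blk.range _ ▸ ⟨_, rfl⟩) _ (h.blk.range _ ▸ ⟨_, rfl⟩)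
    · rw [eq_top_iff, ← hD.decomp.iSup_eq_top]
      refine iSup_le fun j => ?_
      rw [← h.blk.range, ← Submodule.map_top, ← h3, Submodule.map_iSup]
      exact iSup_le fun l => le_iSup_of_le (finProdFinEquiv (l, j)) (by
        simp only [φ, Equiv.symm_apply_apply, LinearMap.range_comp]; rfl)
  refine ⟨_, h6, fun i => ⟨_, h.blk.range _ ▸ LinearMap.range_comp_le_range _ _⟩, fun g hg =>
    le_decompositionStabilizer_of_map h6.decomp.decomp fun i => ?_⟩
  obtain ⟨τ, a, -, h7, h8⟩ := h.stab hg.1 hg.2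
  obtain ⟨l', hl⟩ := h4 (a (finProdFinEquiv.symm i).2) (mem_isometryGroup.2 (h8 _))
    (finProdFinEquiv.symm i).1
  refine ⟨finProdFinEquiv (l', τ (finProdFinEquiv.symm i).2), ?_⟩
  rintro _ ⟨x, rfl⟩
  obtain ⟨y, hy⟩ := hl x
  exact ⟨y, by simp only [φ, LinearMap.comp_apply, Equiv.symm_apply_apply, h7, hy]⟩

theorem OBlk.frame' {t k : ℕ} {D : Fin t → Submodule F (ι → F)} {e : ι ≃ Fin k × Fin t} {P : GL ι F}
    {c : F} (h : OBlk Q G D e P (fun _ x => c * ∑ i, x i ^ 2) fun _ => (2 * c) • 1) (hQ : QF Q G)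
    (hD : IsNondegenerateMDecomposition (𝔟 G) k D) (h2 : (2 : F) ≠ 0) (hc : c ≠ 0)
    (h1 : ∀ x : Fin k → F, ∑ i, x i ^ 2 = 1 → ∃ i, ∀ j, j ≠ i → x j = 0) :
    ∃ D' : Fin (k * t) → Submodule F (ι → F), IsOrthogonalMDecomposition Q 1 D' ∧ (∀ i, ∃ j, D' i ≤ D j) ∧
      decompositionStabilizer D ⊓ isometryGroup F Q ≤ decompositionStabilizer D' := by
  obtain ⟨D', h3, h5, h4⟩ := h.refine' hQ hD hD.decomp.pos one_pos (qf_sumSq h2 hc)
    (ψ := fun l => LinearMap.single F (fun _ => F) l ∘ₗ LinearMap.proj 0)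
    (fun l x => by simp [Pi.single_apply]) (fun l l' hl x y => by simp [fm_smul, fm, hl, Pi.single_apply])
    (eq_top_iff.2 fun x _ => by
      rw [← Finset.univ_sum_single x]
      exact sum_mem fun l _ => Submodule.mem_iSup_of_mem l ⟨fun _ => x l, rfl⟩) fun a ha l => by
      have h3 := mem_isometryGroup.1 ha (Pi.single l 1)
      obtain ⟨i, hi⟩ := h1 (a.val *ᵥ Pi.single l 1) (by simpa [hc, Pi.single_apply] using h3)
      refine ⟨i, fun x => ⟨fun _ => a.val i l * x 0, ?_⟩⟩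
      ext j
      by_cases hj : j = i
      · simp [hj]
      · simpa [hj] using Or.inl (hi j hj)
  exact ⟨D', h3, h5, h4⟩

theorem QF.exists_frame' [Fintype F] (h : QF Q G) {t k : ℕ} {D : Fin t → Submodule F (ι → F)}
    (hD : IsOrthogonalMDecomposition Q k D) (hk : (Fintype.card F = 3 ∧ k = 3) ∨
      (Fintype.card F = 3 ∧ k = 2 ∧ ∀ i, ¬ IsPlusTypeOn Q (D i)) ∨
      (Fintype.card F = 5 ∧ k = 2 ∧ ∀ i, IsPlusTypeOn Q (D i))) :
    ∃ D' : Fin (k * t) → Submodule F (ι → F), IsOrthogonalMDecomposition Q 1 D' ∧ (∀ i, ∃ j, D' i ≤ D j) ∧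
      decompositionStabilizer D ⊓ isometryGroup F Q ≤ decompositionStabilizer D' := by
  have h2 : (2 : F) ≠ 0 := two_ne_zero_iff_odd.2 (by rcases hk with h | h | h <;> rw [h.1] <;> decide)
  have h0 := FiniteField.cast_card_eq_zero F
  have hD' := h.nondegDec hD
  have hS := qf_sumSq (κ := Fin 2) h2 (one_ne_zero (α := F))
  rcases hk with ⟨hq, rfl⟩ | ⟨hq, rfl, hp⟩ | ⟨hq, rfl, hp⟩
  · obtain ⟨e, P, Q₀, G₀, hB⟩ := h.exists_oblk_const hD
    have i : Fin t := ⟨0, by have := hD'.decomp.two_le; omega⟩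
    obtain ⟨c, T, hc, hT⟩ := (hB.qf i).hf.exists_pull_eq_smul h2 (hf_symm transpose_one isUnit_one)
      (by decide)
    obtain ⟨P', hB'⟩ := hB.change (fun _ => qf_sumSq h2 (div_ne_zero hc h2)) fun _ => ⟨T, fun x => by
      refine mul_left_cancel₀ h2 ?_
      rw [← (hB.qf i).diag, fm_pull, hT, fm_smul]
      simp [fm, dotProduct, sq]; field_simp⟩
    refine hB'.frame' h hD' h2 (div_ne_zero hc h2) fun x hx => ?_
    have h3 := fun j (hj : x j ≠ 0) => sq_eq_of_card hj (k := 2) hq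
    rw [hq] at h0
    by_cases a : x 0 = 0 <;> by_cases b : x 1 = 0 <;> by_cases c : x 2 = 0 <;>
      simp_all [Fin.sum_univ_three, Fin.exists_fin_succ, Fin.forall_fin_succ] <;> grind
  · obtain ⟨e, P, hB⟩ := h.exists_oblk_even hD' even_two hS fun j => iff_of_false (hp j) fun h3 => by
      obtain ⟨x, hx, h4⟩ := (hS.plus_two_iff (by simp)).1 h3
      have h3 := fun j (hj : x j ≠ 0) => sq_eq_of_card hj (k := 2) hq
      by_cases a : x 0 = 0 <;> by_cases b : x 1 = 0 <;>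
        simp_all [funext_iff, Fin.forall_fin_succ] <;> grind
    refine hB.frame' h hD' h2 one_ne_zero fun x hx => ?_
    have h3 := fun j (hj : x j ≠ 0) => sq_eq_of_card hj (k := 2) hq
    by_cases a : x 0 = 0 <;> by_cases b : x 1 = 0 <;>
      simp_all [Fin.exists_fin_succ, Fin.forall_fin_succ]
  · rw [hq] at h0
    obtain ⟨e, P, hB⟩ := h.exists_oblk_even hD' even_two hS fun j => iff_of_true (hp j)
      ((hS.plus_two_iff (by simp)).2 ⟨![1, 2], by simp, by simp; linear_combination h0⟩)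
    refine hB.frame' h hD' h2 one_ne_zero fun x hx => ?_
    have h3 := fun j (hj : x j ≠ 0) => sq_eq_of_card hj (k := 4) hq
    by_cases a : x 0 = 0 <;> by_cases b : x 1 = 0 <;>
      simp_all [Fin.exists_fin_succ, Fin.forall_fin_succ]
    have h4 := h3.1
    have h5 := h3.2
    grind

theorem QF.exists_planes' [Fintype F] (h : QF Q G) (hq : Fintype.card F = 2) {t : ℕ}
    {D : Fin t → Submodule F (ι → F)} (hD : IsNondegenerateMDecomposition (𝔟 G) 4 D)
    (hp : ∀ i, IsPlusTypeOn Q (D i)) :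
    ∃ D' : Fin (2 * t) → Submodule F (ι → F), IsOrthogonalMDecomposition Q 2 D' ∧
      (∀ i, ∃ j, D' i ≤ D j) ∧
      decompositionStabilizer D ⊓ isometryGroup F Q ≤ decompositionStabilizer D' := by
  have h2 : (2 : F) = 0 := by simpa [hq] using FiniteField.cast_card_eq_zero F
  have h11 : (1 : F) + 1 = 0 := by rw [one_add_one_eq_two, h2]
  have h01 := eq_zero_or_one hq
  have hQ₀ : QF (fun x : Fin 4 → F => x 0 ^ 2 + x 0 * x 1 + x 1 ^ 2 + (x 2 ^ 2 + x 2 * x 3 + x 3 ^ 2))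
      !![0, 1, 0, 0; 1, 0, 0, 0; 0, 0, 0, 1; 0, 0, 1, 0] :=
    ⟨fun c v => by simp; ring, fun u v => by
      simp [fm_eq_sum, Fin.sum_univ_four]
      linear_combination (u 0 * v 0 + u 1 * v 1 + u 2 * v 2 + u 3 * v 3) * h2,
      IsUnit.of_mul_eq_one !![0, 1, 0, 0; 1, 0, 0, 0; 0, 0, 0, 1; 0, 0, 1, 0] (by
        ext i j; fin_cases i <;> fin_cases j <;> simp [Matrix.mul_apply, Fin.sum_univ_four])⟩
  obtain ⟨e, P, hB⟩ := h.exists_oblk_even hD (by decide) hQ₀ fun j => iff_of_true (hp j)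
    ⟨LinearMap.range (Matrix.toLin' !![1, 0; 0, 1; 1, 0; 0, 1]), le_top, by
      rintro _ ⟨x, rfl⟩
      simp [Matrix.mulVec, dotProduct]; linear_combination (x 0 ^ 2 + x 0 * x 1 + x 1 ^ 2) * h2, by
      rw [LinearMap.finrank_range_of_inj fun x y hxy => by
        ext i; fin_cases i
        · simpa [Matrix.mulVec, dotProduct] using congrFun hxy 0
        · simpa [Matrix.mulVec, dotProduct] using congrFun hxy 1]
      simp⟩
  obtain ⟨D', h3, h4, h5⟩ := hB.refine' h hD two_pos two_pos (qf_norm h2)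
    (ψ := ![Matrix.toLin' !![1, 0; 0, 1; 0, 0; 0, 0], Matrix.toLin' !![0, 0; 0, 0; 1, 0; 0, 1]])
    (fun l x => by fin_cases l <;> simp [Matrix.mulVec, dotProduct])
    (fun l l' hl x y => by
      fin_cases l <;> fin_cases l' <;> simp_all [Matrix.mulVec, dotProduct, fm_eq_sum, Fin.sum_univ_four])
    (eq_top_iff.2 fun x _ => by
      have h3 : x = Matrix.toLin' !![1, 0; 0, 1; 0, 0; 0, 0] ![x 0, x 1] +
          Matrix.toLin' !![0, 0; 0, 0; 1, 0; 0, 1] ![x 2, x 3] := by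
        ext i; fin_cases i <;> simp [Matrix.mulVec, dotProduct]
      rw [h3]
      exact add_mem (Submodule.mem_iSup_of_mem 0 ⟨_, rfl⟩) (Submodule.mem_iSup_of_mem 1 ⟨_, rfl⟩))
    fun a ha l => by
      have h3 : ∀ u v : Fin 4 → F, u 0 ^ 2 + u 0 * u 1 + u 1 ^ 2 + (u 2 ^ 2 + u 2 * u 3 + u 3 ^ 2) = 1 →
          v 0 ^ 2 + v 0 * v 1 + v 1 ^ 2 + (v 2 ^ 2 + v 2 * v 3 + v 3 ^ 2) = 1 →
          u 0 * v 1 + u 1 * v 0 + u 2 * v 3 + u 3 * v 2 = 1 →
          (u 2 = 0 ∧ u 3 = 0 ∧ v 2 = 0 ∧ v 3 = 0) ∨ (u 0 = 0 ∧ u 1 = 0 ∧ v 0 = 0 ∧ v 1 = 0) := by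
        intro u v
        rcases h01 (u 0) with a | a <;> rcases h01 (u 1) with b | b <;> rcases h01 (u 2) with c | c <;>
          rcases h01 (u 3) with d | d <;> simp [a, b, c, d, h11] <;>
          rcases h01 (v 0) with a | a <;> rcases h01 (v 1) with b | b <;> rcases h01 (v 2) with c | c <;>
          rcases h01 (v 3) with d | d <;> simp [a, b, c, d, h11]
      have h4 : ∀ i j : Fin 4, (i, j) = (0, 1) ∨ (i, j) = (2, 3) →
          (a.val 2 i = 0 ∧ a.val 3 i = 0 ∧ a.val 2 j = 0 ∧ a.val 3 j = 0) ∨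
          (a.val 0 i = 0 ∧ a.val 1 i = 0 ∧ a.val 0 j = 0 ∧ a.val 1 j = 0) := fun i j hij => by
        have h5 := mem_isometryGroup.1 ha (Pi.single i 1)
        have h6 := mem_isometryGroup.1 ha (Pi.single j 1)
        have h7 := fm_isom (hQ₀.isometryGroup_le ha) (Pi.single i 1) (Pi.single j 1)
        rw [Matrix.mulVec_single_one] at h5 h6 h7
        rw [Matrix.mulVec_single_one] at h7
        refine h3 (a.val.col i) (a.val.col j) (h5.trans ?_) (h6.trans ?_)
          (Eq.trans (by simp [fm_eq_sum, Fin.sum_univ_four]) (h7.trans ?_)) <;>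
        rcases hij with h | h <;> obtain ⟨rfl, rfl⟩ := h <;> simp [fm_eq_sum, Fin.sum_univ_four]
      fin_cases l
      · rcases h4 0 1 (Or.inl rfl) with h5 | h5
        · exact ⟨0, fun x => ⟨![a.val 0 0 * x 0 + a.val 0 1 * x 1, a.val 1 0 * x 0 + a.val 1 1 * x 1], by
            ext i; fin_cases i <;> simp [Matrix.mulVec, dotProduct, Fin.sum_univ_four, h5]⟩⟩
        · exact ⟨1, fun x => ⟨![a.val 2 0 * x 0 + a.val 2 1 * x 1, a.val 3 0 * x 0 + a.val 3 1 * x 1], by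
            ext i; fin_cases i <;> simp [Matrix.mulVec, dotProduct, Fin.sum_univ_four, h5]⟩⟩
      · rcases h4 2 3 (Or.inr rfl) with h5 | h5
        · exact ⟨0, fun x => ⟨![a.val 0 2 * x 0 + a.val 0 3 * x 1, a.val 1 2 * x 0 + a.val 1 3 * x 1], by
            ext i; fin_cases i <;> simp [Matrix.mulVec, dotProduct, Fin.sum_univ_four, h5]⟩⟩
        · exact ⟨1, fun x => ⟨![a.val 2 2 * x 0 + a.val 2 3 * x 1, a.val 3 2 * x 0 + a.val 3 3 * x 1], by
            ext i; fin_cases i <;> simp [Matrix.mulVec, dotProduct, Fin.sum_univ_four, h5]⟩⟩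
  exact ⟨D', h3, h4, h5⟩

theorem exists_field_two' [Fintype F] (hq : Fintype.card F = 2) :
    ∃ K : Subalgebra F (Matrix (Fin 2) (Fin 2) F), IsFieldSubalgebra 2 K ∧ Stable ⊤ K ∧
      ∀ x, x ∈ K ↔ ∃ a b : F, x = a • 1 + b • !![0, 1; 1, 1] := by
  have h2 : (2 : F) = 0 := by simpa [hq] using FiniteField.cast_card_eq_zero F
  have h11 : (1 : F) + 1 = 0 := by rw [one_add_one_eq_two, h2]
  let w : Matrix (Fin 2) (Fin 2) F := !![0, 1; 1, 1]
  have hw : w * w = w + 1 := by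
    ext i j; fin_cases i <;> fin_cases j <;> simp [w, h11]
  have hroot : ∀ x : Matrix (Fin 2) (Fin 2) F, x * x = x + 1 → x = w ∨ x = w + 1 := by
    intro x hx
    have h00 := congrFun (congrFun hx 0) 0
    have h01 := congrFun (congrFun hx 0) 1
    have h10 := congrFun (congrFun hx 1) 0
    have h1 := congrFun (congrFun hx 1) 1
    rw [Matrix.eta_fin_two x]
    simp only [Matrix.mul_apply, Fin.sum_univ_two, Matrix.add_apply, Matrix.one_apply] at h00 h01 h10 h1
    rcases eq_zero_or_one hq (x 0 0) with a | a <;> rcases eq_zero_or_one hq (x 0 1) with b | b <;>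
      rcases eq_zero_or_one hq (x 1 0) with c | c <;> rcases eq_zero_or_one hq (x 1 1) with d | d <;>
      simp_all [w, Matrix.one_fin_two]
  let K : Subalgebra F (Matrix (Fin 2) (Fin 2) F) :=
    { carrier := {x | ∃ a b : F, x = a • 1 + b • w}
      mul_mem' := by
        rintro _ _ ⟨a, b, rfl⟩ ⟨c, d, rfl⟩
        refine ⟨a * c + b * d, a * d + b * c + b * d, ?_⟩
        simp only [mul_add, add_mul, smul_mul_assoc, mul_smul_comm, one_mul, mul_one, hw]
        module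
      add_mem' := by
        rintro _ _ ⟨a, b, rfl⟩ ⟨c, d, rfl⟩
        exact ⟨a + c, b + d, by module⟩
      algebraMap_mem' := fun c => ⟨c, 0, by simp [Algebra.algebraMap_eq_smul_one]⟩ }
  refine ⟨K, ⟨?_, ?_, ?_⟩, ?_, fun _ => Iff.rfl⟩
  · rintro _ ⟨a, b, rfl⟩ _ ⟨c, d, rfl⟩
    simp only [mul_add, add_mul, smul_mul_assoc, mul_smul_comm, one_mul, mul_one, hw]
    module
  · rintro _ ⟨a, b, rfl⟩ h0
    have hww : w + w = 0 := by rw [← two_smul F, h2, zero_smul]
    rcases eq_zero_or_one hq a with rfl | rfl <;> rcases eq_zero_or_one hq b with rfl | rfl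
    · simp at h0
    · exact ⟨_, ⟨1, 1, rfl⟩, by simp [mul_add, hw, ← add_assoc, hww]⟩
    · exact ⟨_, ⟨1, 0, rfl⟩, by simp⟩
    · exact ⟨_, ⟨0, 1, rfl⟩, by simp [add_mul, hw, ← add_assoc, hww]⟩
  · have hli : LinearIndependent F ![(1 : Matrix (Fin 2) (Fin 2) F), w] := by
      rw [LinearIndependent.pair_iff]
      intro s t h
      have h1 := congrFun (congrFun h 0) 0
      have h2 := congrFun (congrFun h 0) 1
      simp [w] at h1 h2
      exact ⟨h1, h2⟩
    have := finrank_span_eq_card hli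
    rw [Fintype.card_fin] at this
    refine Eq.trans ?_ this
    refine LinearEquiv.finrank_eq (LinearEquiv.ofEq (Subalgebra.toSubmodule K) _ ?_)
    ext x
    simp only [Matrix.range_cons, Matrix.range_empty, Set.union_empty, Set.singleton_union,
      Submodule.mem_span_pair]
    exact ⟨fun ⟨a, b, h⟩ => ⟨a, b, h.symm⟩, fun ⟨a, b, h⟩ => ⟨a, b, h.symm⟩⟩
  · rintro g - _ ⟨a, b, rfl⟩
    rcases hroot (cj g w) (by rw [← map_mul, hw, map_add, map_one]) with h | h
    · exact ⟨a, b, by rw [map_add, map_smul, map_smul, map_one, h]⟩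
    · exact ⟨a + b, b, by rw [map_add, map_smul, map_smul, map_one, h]; module⟩

end Cfsg.Agent.H26
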